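import Groth.Agent.H83.FullFaith.Abstract
import Mathlib.CategoryTheory.Linear.LinearFunctor
import Mathlib.CategoryTheory.Linear.Basic
import Mathlib.LinearAlgebra.FiniteDimensional.Lemmas

/-!
# Exact functors fixing the objects of a heart-like class are bijective on it
-/

set_option autoImplicit false
set_option linter.style.haveILetI false
set_option linter.unusedSectionVars false

universe w v u

open CategoryTheory CategoryTheory.Limits CategoryTheory.Pretriangulated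

namespace Groth.Agent.H83.PtFF

open Groth.Agent.H83.FullFaith (Bij)

variable {k : Type w} [Field k] {C : Type u} [Category.{v} C] [HasZeroObject C] [HasShift C ℤ]
  [Preadditive C] [Linear k C] [∀ n : ℤ, (shiftFunctor C n).Additive] [Pretriangulated C]
  (F : C ⥤ C) [F.CommShift ℤ] [F.IsTriangulated] [F.Additive] [F.Linear k]
  (S : C → Prop)

/-- The hypotheses on the class. -/
structure Heart : Prop where
  fix : ∀ A, S A → Nonempty (F.obj A ≅ A)
  neg : ∀ A B, S A → S B → ∀ i : ℤ, i < 0 → ∀ φ : A ⟶ (shiftFunctor C i).obj B, φ = 0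
  fin : ∀ A B, S A → S B → ∀ i : ℤ, Module.Finite k (A ⟶ (shiftFunctor C i).obj B)
  ext : ∀ T ∈ distTriang C, S T.obj₁ → S T.obj₃ → S T.obj₂
  img : ∀ (A B : C) (f : A ⟶ B), S A → S B → ∃ (K I Q : C) (a : K ⟶ A) (π : A ⟶ I)
    (b : I ⟶ (shiftFunctor C (1 : ℤ)).obj K) (ι : I ⟶ B) (p : B ⟶ Q)
    (d : Q ⟶ (shiftFunctor C (1 : ℤ)).obj I), Triangle.mk a π b ∈ distTriang C ∧
      Triangle.mk ι p d ∈ distTriang C ∧ S K ∧ S I ∧ S Q ∧ f = π ≫ ι
  gen : ∀ (A B : C), S A → S B → ∀ i : ℤ, 1 ≤ i → ∀ ξ : A ⟶ (shiftFunctor C (i + 1)).obj B,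
    ∃ (W : C) (δ : A ⟶ (shiftFunctor C (1 : ℤ)).obj W)
      (θ : (shiftFunctor C (1 : ℤ)).obj W ⟶ (shiftFunctor C (i + 1)).obj B), S W ∧ ξ = δ ≫ θ

variable {F S}
variable (h : Heart (k := k) F S)

include h

/-- The comparison of the two Hom spaces. -/
theorem Heart.equiv {A B : C} (hA : S A) (hB : S B) (i : ℤ) :
    Nonempty ((F.obj A ⟶ F.obj ((shiftFunctor C i).obj B)) ≃ₗ[k] (A ⟶ (shiftFunctor C i).obj B)) := by
  obtain ⟨a⟩ := h.fix A hA
  obtain ⟨b⟩ := h.fix B hB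
  exact ⟨Linear.homCongr k a ((F.commShiftIso i).app B ≪≫ (shiftFunctor C i).mapIso b)⟩

theorem Heart.eq_zero_F {A B : C} (hA : S A) (hB : S B) {i : ℤ} (hi : i < 0)
    (φ : F.obj A ⟶ F.obj ((shiftFunctor C i).obj B)) : φ = 0 := by
  obtain ⟨e⟩ := h.equiv hA hB i
  exact e.injective ((h.neg A B hA hB i hi (e φ)).trans e.map_zero.symm)

theorem Heart.bij_of_injective {A B : C} (hA : S A) (hB : S B) (i : ℤ)
    (hinj : ∀ f : A ⟶ (shiftFunctor C i).obj B, F.map f = 0 → f = 0) :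
    Bij F A ((shiftFunctor C i).obj B) := by
  obtain ⟨e⟩ := h.equiv hA hB i
  haveI := h.fin A B hA hB i
  let L : (A ⟶ (shiftFunctor C i).obj B) →ₗ[k] (A ⟶ (shiftFunctor C i).obj B) :=
    e.toLinearMap ∘ₗ (F.mapLinearMap k)
  have hL : Function.Injective L :=
    (injective_iff_map_eq_zero L).2 fun f hf => hinj f (e.injective (hf.trans e.map_zero.symm))
  have hL' : Function.Surjective L := LinearMap.injective_iff_surjective.1 hL
  exact ⟨fun f g hfg => hL (congrArg e hfg), fun φ => by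
    obtain ⟨f, hf⟩ := hL' (e φ)
    exact ⟨f, e.injective hf⟩⟩

theorem Heart.bij_of_surjective {A B : C} (hA : S A) (hB : S B) (i : ℤ)
    (hs : Function.Surjective (fun f : A ⟶ (shiftFunctor C i).obj B => F.map f)) :
    Bij F A ((shiftFunctor C i).obj B) := by
  obtain ⟨e⟩ := h.equiv hA hB i
  haveI := h.fin A B hA hB i
  let L : (A ⟶ (shiftFunctor C i).obj B) →ₗ[k] (A ⟶ (shiftFunctor C i).obj B) :=
    e.toLinearMap ∘ₗ (F.mapLinearMap k)
  have hL' : Function.Surjective L := fun ψ => by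
    obtain ⟨f, hf⟩ := hs (e.symm ψ)
    exact ⟨f, (congrArg e hf).trans (e.apply_symm_apply ψ)⟩
  have hL : Function.Injective L := LinearMap.injective_iff_surjective.2 hL'
  exact ⟨fun f g hfg => hL (congrArg e hfg), hs⟩

theorem Heart.bij_neg {A B : C} (hA : S A) (hB : S B) {i : ℤ} (hi : i < 0) :
    Bij F A ((shiftFunctor C i).obj B) :=
  h.bij_of_injective hA hB i fun f _ => h.neg A B hA hB i hi f

theorem Heart.inj_zero {A B : C} (hA : S A) (hB : S B) (f : A ⟶ B) (hf : F.map f = 0) : f = 0 := by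
  obtain ⟨K, I, Q, a, π, b, ι, p, d, hT₁, hT₂, hK, hI, hQ, rfl⟩ := h.img A B f hA hB
  -- `F ι` is a monomorphism on maps out of the class
  have h1 : F.map π = 0 := by
    obtain ⟨θ, hθ⟩ := Triangle.coyoneda_exact₂ _ (inv_rot_of_distTriang _ (F.map_distinguished _ hT₂))
      (F.map π) ((F.map_comp π ι).symm.trans hf)
    obtain rfl : θ = 0 := (cancel_mono ((F.commShiftIso (-1 : ℤ)).inv.app Q)).1
      ((h.eq_zero_F hA hQ (show (-1 : ℤ) < 0 by omega) _).trans zero_comp.symm)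
    exact hθ.trans zero_comp
  have h2 : 𝟙 (F.obj I) = 0 := by
    obtain ⟨θ, hθ⟩ := Triangle.yoneda_exact₂ _ (rot_of_distTriang _ (F.map_distinguished _ hT₁))
      (𝟙 (F.obj I)) ((Category.comp_id _).trans h1)
    obtain rfl : θ = 0 := by
      obtain ⟨eK⟩ := h.fix K hK
      obtain ⟨eI⟩ := h.fix I hI
      let ψ : (shiftFunctor C (1 : ℤ)).obj K ⟶ I := eK.inv⟦(1 : ℤ)⟧' ≫ θ ≫ eI.hom
      have hψ : ψ = 0 := by
        let c := (shiftFunctorCompIsoId C (1 : ℤ) (-1) (by omega)).app K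
        have := h.neg K I hK hI (-1) (by omega) (c.inv ≫ (shiftFunctor C (-1 : ℤ)).map ψ)
        refine (shiftFunctor C (-1 : ℤ)).map_injective ?_
        rw [Functor.map_zero]
        exact (cancel_epi c.inv).1 (this.trans comp_zero.symm)
      haveI : IsIso (eK.inv⟦(1 : ℤ)⟧') := inferInstance
      exact (cancel_mono eI.hom).1 ((cancel_epi (eK.inv⟦(1 : ℤ)⟧')).1
        ((show eK.inv⟦(1 : ℤ)⟧' ≫ θ ≫ eI.hom = 0 from hψ).trans comp_zero.symm) |>.trans zero_comp.symm)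
    exact hθ.trans comp_zero
  obtain ⟨eI⟩ := h.fix I hI
  have h3 : IsZero I := ((IsZero.iff_id_eq_zero _).2 h2).of_iso eI.symm
  rw [h3.eq_of_src ι 0, comp_zero]

theorem Heart.bij_zero {A B : C} (hA : S A) (hB : S B) :
    Bij F A ((shiftFunctor C (0 : ℤ)).obj B) := by
  let c := (shiftFunctorZero C ℤ).app B
  refine h.bij_of_injective hA hB 0 fun f hf => ?_
  exact (cancel_mono c.hom).1 ((h.inj_zero hA hB (f ≫ c.hom)
    ((F.map_comp _ _).trans (by rw [hf, zero_comp]))).trans zero_comp.symm)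

theorem Heart.bij_one {A B : C} (hA : S A) (hB : S B) :
    Bij F A ((shiftFunctor C (1 : ℤ)).obj B) := by
  refine h.bij_of_injective hA hB 1 fun ξ hξ => ?_
  obtain ⟨Z, f, g, hT⟩ := distinguished_cocone_triangle₂ ξ
  have hZ : S Z := h.ext _ hT hB hA
  obtain ⟨eZ⟩ := h.fix Z hZ
  obtain ⟨eA⟩ := h.fix A hA
  obtain ⟨eB⟩ := h.fix B hB
  obtain ⟨e, -⟩ := exists_iso_binaryBiproduct_of_distTriang _ (F.map_distinguished _ hT)
    ((congrArg (· ≫ (F.commShiftIso (1 : ℤ)).hom.app B) hξ).trans zero_comp)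
  haveI := HasBinaryBiproducts.of_hasBinaryProducts (C := C)
  let t : Z ≅ B ⊞ A := eZ.symm ≪≫ e ≪≫ biprod.mapIso eB eA
  let z := (shiftFunctorZero C ℤ).app
  haveI hAA : Module.Finite k (A ⟶ A) := by
    haveI := h.fin A A hA hA 0
    exact Module.Finite.equiv (Linear.homCongr k (Iso.refl A) (z A))
  haveI hAB : Module.Finite k (A ⟶ B) := by
    haveI := h.fin A B hA hB 0
    exact Module.Finite.equiv (Linear.homCongr k (Iso.refl A) (z B))
  haveI hAZ : Module.Finite k (A ⟶ Z) := by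
    haveI := h.fin A Z hA hZ 0
    exact Module.Finite.equiv (Linear.homCongr k (Iso.refl A) (z Z))
  let s : (A ⟶ Z) ≃ₗ[k] (A ⟶ B) × (A ⟶ A) :=
    LinearEquiv.ofLinearMap
      ((Linear.rightComp k A (t.hom ≫ biprod.fst)).prod (Linear.rightComp k A (t.hom ≫ biprod.snd)))
      ((Linear.rightComp k A (biprod.inl ≫ t.inv)).coprod (Linear.rightComp k A (biprod.inr ≫ t.inv)))
      (by ext φ <;> simp) (LinearMap.ext fun φ => by
        show (φ ≫ t.hom ≫ biprod.fst) ≫ biprod.inl ≫ t.inv + (φ ≫ t.hom ≫ biprod.snd) ≫ biprod.inr ≫ t.inv = φ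
        have hid : (biprod.fst : B ⊞ A ⟶ B) ≫ biprod.inl ≫ t.inv + biprod.snd ≫ biprod.inr ≫ t.inv = t.inv := by
          rw [← Category.assoc, ← Category.assoc biprod.snd, ← Preadditive.add_comp, biprod.total,
            Category.id_comp]
        simp only [Category.assoc]
        rw [← Preadditive.comp_add, ← Preadditive.comp_add, hid, t.hom_inv_id, Category.comp_id])
  have hdim : Module.finrank k (A ⟶ Z) = Module.finrank k (A ⟶ B) + Module.finrank k (A ⟶ A) := by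
    rw [s.finrank_eq, Module.finrank_prod]
  let Lg : (A ⟶ Z) →ₗ[k] (A ⟶ A) := Linear.rightComp k A g
  let Lf : (A ⟶ B) →ₗ[k] (A ⟶ Z) := Linear.rightComp k A f
  have hker : LinearMap.ker Lg ≤ LinearMap.range Lf := fun φ hφ => by
    obtain ⟨ψ, hψ⟩ := Triangle.coyoneda_exact₂ _ hT φ hφ
    exact ⟨ψ, hψ.symm⟩
  have h1 : Module.finrank k (LinearMap.ker Lg) ≤ Module.finrank k (A ⟶ B) :=
    (Submodule.finrank_mono hker).trans (LinearMap.finrank_range_le Lf)
  have h2 := LinearMap.finrank_range_add_finrank_ker Lg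
  have h3 : LinearMap.range Lg = ⊤ := Submodule.eq_top_of_finrank_eq
    (le_antisymm (Submodule.finrank_le _) (by omega))
  obtain ⟨φ, hφ⟩ := LinearMap.range_eq_top.1 h3 (𝟙 A)
  have h0 : g ≫ ξ = 0 := comp_distTriang_mor_zero₂₃ _ hT
  calc ξ = (φ ≫ g) ≫ ξ := by rw [show φ ≫ g = 𝟙 A from hφ, Category.id_comp]
    _ = 0 := by rw [Category.assoc, h0, comp_zero]

theorem Heart.bij : ∀ (n : ℕ) (A B : C), S A → S B → Bij F A ((shiftFunctor C (n : ℤ)).obj B) := by
  intro n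
  induction n with
  | zero => exact fun A B hA hB => h.bij_zero hA hB
  | succ n ih =>
    intro A B hA hB
    rcases Nat.eq_zero_or_pos n with rfl | hn
    · exact h.bij_one hA hB
    · have hcast : ((n + 1 : ℕ) : ℤ) = (n : ℤ) + 1 := by push_cast; rfl
      rw [hcast]
      obtain ⟨eA⟩ := h.fix A hA
      obtain ⟨eB⟩ := h.fix B hB
      let c : F.obj ((shiftFunctor C ((n : ℤ) + 1)).obj B) ≅ (shiftFunctor C ((n : ℤ) + 1)).obj B :=
        (F.commShiftIso _).app B ≪≫ (shiftFunctor C _).mapIso eB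
      refine h.bij_of_surjective hA hB _ fun η => ?_
      obtain ⟨W, δ, θ, hW, hξ⟩ := h.gen A B hA hB (n : ℤ) (by omega) (eA.inv ≫ η ≫ c.hom)
      obtain ⟨eW⟩ := h.fix W hW
      let d : F.obj ((shiftFunctor C (1 : ℤ)).obj W) ≅ (shiftFunctor C (1 : ℤ)).obj W :=
        (F.commShiftIso _).app W ≪≫ (shiftFunctor C _).mapIso eW
      obtain ⟨δ', hδ'⟩ := (h.bij_one hA hW).2 (eA.hom ≫ δ ≫ d.inv)
      have hWB : Bij F ((shiftFunctor C (1 : ℤ)).obj W) ((shiftFunctor C ((n : ℤ) + 1)).obj B) :=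
        ((ih W B hW hB).shift 1).of_iso (Iso.refl _)
          ((shiftFunctorAdd' C (n : ℤ) 1 ((n : ℤ) + 1) rfl).app B).symm
      obtain ⟨θ', hθ'⟩ := hWB.2 (d.hom ≫ θ ≫ c.inv)
      refine ⟨δ' ≫ θ', ?_⟩
      change F.map (δ' ≫ θ') = η
      rw [Functor.map_comp, show F.map δ' = _ from hδ', show F.map θ' = _ from hθ']
      calc (eA.hom ≫ δ ≫ d.inv) ≫ d.hom ≫ θ ≫ c.inv = eA.hom ≫ (δ ≫ θ) ≫ c.inv := by simp
        _ = η := by rw [← hξ]; simp

/-- `F` is bijective between shifts of objects of the class. -/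
theorem Heart.bij_all {A B : C} (hA : S A) (hB : S B) (i : ℤ) : Bij F A ((shiftFunctor C i).obj B) := by
  rcases le_or_gt 0 i with hi | hi
  · lift i to ℕ using hi
    exact h.bij i A B hA hB
  · exact h.bij_neg hA hB hi

end Groth.Agent.H83.PtFF
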