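import Groth.Agent.H83.PtFF.Sky
import Groth.Agent.H56.PointHom.Main
import Groth.Agent.Lib.TensorMod.FPConv
import Groth.Agent.Lib.Perfect.Coherent
import Groth.Prelude.Def_PerfAux

/-!
# Higher morphisms between modules supported at a point factor through degree one
-/

set_option autoImplicit false
set_option linter.style.haveILetI false
set_option linter.unusedSectionVars false

universe u

open CategoryTheory CategoryTheory.Limits CategoryTheory.Pretriangulated AlgebraicGeometry DerivedCategory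

attribute [local instance] HasDerivedCategory.standard

namespace Groth.Agent.H83.PtFF

open Groth.Agent.Lib

variable {X : Scheme.{u}} [IsNoetherian X] {x : X} (hx : IsClosed ({x} : Set X))

theorem isCoh_pushout {A B C : X.Modules} (f : A ⟶ B) (g : A ⟶ C) (hB : Coh.IsCoh B) (hC : Coh.IsCoh C)
    (hA : Coh.IsCoh A) : Coh.IsCoh (pushout f g) := by
  have h := CohBasics.Closure.isCoh_cokernel (biprod.lift f (-g)) hA.1 (CohBasics.Closure.isCoh_biprod hB hC)
  refine CohBasics.Closure.isCoh_of_iso ?_ h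
  exact
    { hom := cokernel.desc _ (biprod.desc (pushout.inl f g) (pushout.inr f g)) (by
        simp [pushout.condition])
      inv := pushout.desc (biprod.inl ≫ cokernel.π _) (biprod.inr ≫ cokernel.π _) (by
        have h0 : (f ≫ biprod.inl + (-g) ≫ biprod.inr) ≫ cokernel.π (biprod.lift f (-g)) = 0 := by
          rw [← biprod.lift_eq]; exact cokernel.condition _
        rw [Preadditive.add_comp, Preadditive.neg_comp, Preadditive.neg_comp, Category.assoc, Category.assoc,
          ← sub_eq_add_neg, sub_eq_zero] at h0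
        exact h0)
      hom_inv_id := coequalizer.hom_ext (by
        rw [cokernel.π_desc_assoc, Category.comp_id]
        refine biprod.hom_ext' _ _ ?_ ?_
        · rw [biprod.inl_desc_assoc, pushout.inl_desc]
        · rw [biprod.inr_desc_assoc, pushout.inr_desc])
      inv_hom_id := pushout.hom_ext
        (by rw [pushout.inl_desc_assoc, Category.assoc, cokernel.π_desc, biprod.inl_desc, Category.comp_id])
        (by rw [pushout.inr_desc_assoc, Category.assoc, cokernel.π_desc, biprod.inr_desc, Category.comp_id]) }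

include hx

/-- No higher morphisms from a locally free module to one supported at a point. -/
theorem hom_eq_zero {E B : X.Modules} (hE : FlatMod.IsFinLocFree E) (hB : AtPt x B) {n : ℤ} (hn : 0 < n)
    (φ : DCoh.inD X E ⟶ (shiftFunctor (DCoh.D X) n).obj (DCoh.inD X B)) : φ = 0 := by
  obtain ⟨m, rfl⟩ : ∃ m : ℕ, n = (m : ℤ) + 1 := ⟨(n - 1).toNat, by omega⟩
  let e := ((singleFunctors X.Modules).shiftIso ((m : ℤ) + 1) (-((m : ℤ) + 1)) 0 (by omega)).app B
  refine (cancel_mono e.hom).1 ((H56.ExtVanish.eq_zero_single (i := 0) (j := -((m : ℤ) + 1))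
    (m + 1) (by omega) ?_ _).trans zero_comp.symm)
  refine (H56.PointHom.subsingleton_ext_iff hx (Perfect.Coherent.isCoh_of_isFinLocFree hE)
    (fun y hy q => ?_) _).2 ?_
  · haveI : Subsingleton (B.presheaf.stalk y) := not_not.1 fun h => hy (hB.2 h)
    exact H56.PointHom.subsingleton_ext_of_tgt _ _ q
  · haveI := TensorMod.FPConv.free_stalk_of_isFinLocFree hE x
    haveI : Module.Projective (X.presheaf.stalk x) (E.presheaf.stalk x) := inferInstance
    haveI : Projective (ModuleCat.of (X.presheaf.stalk x) (E.presheaf.stalk x)) :=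
      (IsProjective.iff_projective _).1 inferInstance
    exact Abelian.Ext.subsingleton_of_projective _ _ m

/-- The factorisation through a short exact sequence with locally free middle term. -/
theorem exists_fac_delta (hres : PerfAux.HasResolutionProperty X) {W B : X.Modules} (hW : Coh.IsCoh W)
    (hB : AtPt x B) {j : ℤ} (hj : 0 ≤ j)
    (ξ : DCoh.inD X W ⟶ (shiftFunctor (DCoh.D X) (j + 1)).obj (DCoh.inD X B)) :
    ∃ (S : ShortComplex X.Modules) (hS : S.ShortExact) (e : S.X₃ ≅ W)
      (ξ' : DCoh.inD X S.X₁ ⟶ (shiftFunctor (DCoh.D X) j).obj (DCoh.inD X B)),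
      Coh.IsCoh S.X₁ ∧ Coh.IsCoh S.X₂ ∧
      ξ = (singleFunctor X.Modules 0).map e.inv ≫ hS.singleδ ≫ (shiftFunctor (DCoh.D X) (1 : ℤ)).map ξ' ≫
        ((shiftFunctorAdd' (DCoh.D X) j 1 (j + 1) rfl).app (DCoh.inD X B)).inv := by
  obtain ⟨E, π, hE, hπ⟩ := hres W hW.1 hW.2
  have hEc := Perfect.Coherent.isCoh_of_isFinLocFree hE
  let S : ShortComplex X.Modules := ShortComplex.mk (kernel.ι π) π (kernel.condition π)
  have hS : S.ShortExact :=
    { exact := ShortComplex.exact_of_f_is_kernel _ (kernelIsKernel π)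
      mono_f := inferInstanceAs (Mono (kernel.ι π))
      epi_g := hπ }
  have h0 : (singleFunctor X.Modules 0).map π ≫ ξ = 0 := hom_eq_zero hx hE hB (by omega) _
  obtain ⟨θ, hθ⟩ := Triangle.yoneda_exact₃ _ hS.singleTriangle_distinguished ξ h0
  let c := (shiftFunctorAdd' (DCoh.D X) j 1 (j + 1) rfl).app (DCoh.inD X B)
  obtain ⟨ξ', hξ'⟩ := (shiftFunctor (DCoh.D X) (1 : ℤ)).map_surjective (θ ≫ c.hom)
  refine ⟨S, hS, Iso.refl W, ξ', CohBasics.Closure.isCoh_kernel π hEc hW.1, hEc, hθ.trans ?_⟩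
  refine (congrArg (hS.singleδ ≫ ·) ?_).trans ((congrArg (· ≫ hS.singleδ ≫ _)
    ((singleFunctor X.Modules 0).map_id W)).trans (Category.id_comp _)).symm
  exact ((congrArg (· ≫ c.inv) hξ').trans ((Category.assoc _ _ _).trans
    ((congrArg (θ ≫ ·) c.hom_inv_id).trans (Category.comp_id _)))).symm

/-- Classes with values in `B` are killed by passing to modules at `x`. -/
theorem exists_fac (hres : PerfAux.HasResolutionProperty X) {B : X.Modules} (hB : AtPt x B) :
    ∀ (j : ℕ) (W : X.Modules), Coh.IsCoh W →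
      ∀ ξ : DCoh.inD X W ⟶ (shiftFunctor (DCoh.D X) (j : ℤ)).obj (DCoh.inD X B),
      ∃ (Q : X.Modules) (g : DCoh.inD X W ⟶ DCoh.inD X Q)
        (ζ : DCoh.inD X Q ⟶ (shiftFunctor (DCoh.D X) (j : ℤ)).obj (DCoh.inD X B)),
        AtPt x Q ∧ ξ = g ≫ ζ := by
  intro j
  induction j with
  | zero =>
    intro W _ ξ
    let z := (shiftFunctorZero' (DCoh.D X) ((0 : ℕ) : ℤ) Nat.cast_zero).app (DCoh.inD X B)
    exact ⟨B, ξ ≫ z.hom, z.inv, hB,
      ((Category.assoc _ _ _).trans ((congrArg (ξ ≫ ·) z.hom_inv_id).trans (Category.comp_id _))).symm⟩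
  | succ j ih =>
    intro W hW ξ
    let eq : ((j + 1 : ℕ) : ℤ) = (j : ℤ) + 1 := by push_cast; rfl
    let c := (eqToIso (congrArg (shiftFunctor (DCoh.D X)) eq)).app (DCoh.inD X B)
    obtain ⟨S, hS, e, ξ', hS1, hS2, hξ⟩ := exists_fac_delta hx hres hW hB (Int.natCast_nonneg j) (ξ ≫ c.hom)
    obtain ⟨Q, g, ζ, hQ, hg⟩ := ih S.X₁ hS1 ξ'
    obtain ⟨g₀, hg₀⟩ := (singleFunctor X.Modules 0).map_surjective g
    -- the pushout of the sequence along `g₀`
    let P := pushout S.f g₀
    haveI : Mono S.f := hS.mono_f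
    have hP : Coh.IsCoh P := by
      exact isCoh_pushout S.f g₀ hS2 hQ.1 hS1
    obtain ⟨L, q, hL, hq, hqm⟩ := exists_quot hx hP hQ (pushout.inr S.f g₀)
    let i := pushout.inr S.f g₀ ≫ q
    haveI : Mono i := hqm
    let T : ShortComplex X.Modules := ShortComplex.mk i (cokernel.π i) (cokernel.condition i)
    have hT : T.ShortExact :=
      { exact := ShortComplex.exact_of_g_is_cokernel _ (cokernelIsCokernel i)
        mono_f := hqm
        epi_g := inferInstanceAs (Epi (cokernel.π i)) }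
    have hR : AtPt x (cokernel i) := ⟨CohBasics.Closure.isCoh_cokernel i hQ.1.1 hL.1,
      (Modules.Support.support_subset_of_epi (cokernel.π i)).trans hL.2⟩
    obtain ⟨d, -, hd⟩ := complete_distinguished_triangle_morphism _ _ hS.singleTriangle_distinguished
      hT.singleTriangle_distinguished g
      ((singleFunctor X.Modules 0).map (pushout.inl S.f g₀ ≫ q)) (by
        change (singleFunctor X.Modules 0).map S.f ≫ _ = g ≫ (singleFunctor X.Modules 0).map i
        rw [← hg₀]
        refine ((singleFunctor X.Modules 0).map_comp _ _).symm.trans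
          (Eq.trans ?_ ((singleFunctor X.Modules 0).map_comp _ _))
        exact congrArg (singleFunctor X.Modules 0).map ((Category.assoc _ _ _).symm.trans
          ((congrArg (· ≫ q) pushout.condition).trans (Category.assoc _ _ _))))
    let s := ((shiftFunctorAdd' (DCoh.D X) (j : ℤ) 1 ((j : ℤ) + 1) rfl).app (DCoh.inD X B)).inv
    refine ⟨cokernel i, (singleFunctor X.Modules 0).map e.inv ≫ d,
      hT.singleδ ≫ (shiftFunctor (DCoh.D X) (1 : ℤ)).map ζ ≫ s ≫ c.inv, hR, ?_⟩
    refine ((Category.assoc ξ c.hom c.inv).trans ((congrArg (ξ ≫ ·) c.hom_inv_id).trans (Category.comp_id ξ))).symm.trans ?_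
    refine (congrArg (· ≫ c.inv) hξ).trans ?_
    rw [hg, Functor.map_comp]
    simp only [Category.assoc]
    refine congrArg ((singleFunctor X.Modules 0).map e.inv ≫ ·) ?_
    change hS.singleδ ≫ (shiftFunctor (DCoh.D X) (1 : ℤ)).map g ≫ _ = d ≫ hT.singleδ ≫ _
    exact ((Category.assoc _ _ _).symm.trans (congrArg (· ≫ _) hd)).trans (Category.assoc _ _ _)

/-- Morphisms of degree at least two factor through degree one. -/
theorem exists_gen (hres : PerfAux.HasResolutionProperty X) {A B : X.Modules} (hA : Coh.IsCoh A)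
    (hB : AtPt x B) {i : ℤ} (hi : 0 ≤ i)
    (ξ : DCoh.inD X A ⟶ (shiftFunctor (DCoh.D X) (i + 1)).obj (DCoh.inD X B)) :
    ∃ (Q : X.Modules) (δ : DCoh.inD X A ⟶ (shiftFunctor (DCoh.D X) (1 : ℤ)).obj (DCoh.inD X Q))
      (θ : (shiftFunctor (DCoh.D X) (1 : ℤ)).obj (DCoh.inD X Q) ⟶
        (shiftFunctor (DCoh.D X) (i + 1)).obj (DCoh.inD X B)), AtPt x Q ∧ ξ = δ ≫ θ := by
  lift i to ℕ using hi
  obtain ⟨S, hS, e, ξ', hS1, -, hξ⟩ := exists_fac_delta hx hres hA hB (Int.natCast_nonneg i) ξ
  obtain ⟨Q, g, ζ, hQ, hg⟩ := exists_fac hx hres hB i S.X₁ hS1 ξ'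
  refine ⟨Q, (singleFunctor X.Modules 0).map e.inv ≫ hS.singleδ ≫ (shiftFunctor (DCoh.D X) (1 : ℤ)).map g,
    (shiftFunctor (DCoh.D X) (1 : ℤ)).map ζ ≫
      ((shiftFunctorAdd' (DCoh.D X) (i : ℤ) 1 ((i : ℤ) + 1) rfl).app (DCoh.inD X B)).inv, hQ, hξ.trans ?_⟩
  rw [hg, Functor.map_comp]
  simp only [Category.assoc]

end Groth.Agent.H83.PtFF
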