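import Groth.Agent.H83.PtFF.Alg
import Groth.Agent.H83.PtFF.Gen
import Groth.Agent.H83.FullFaith.Points
import Groth.Agent.H83.ExtFinite.Main
import Groth.Agent.H83.RegCrit.Tri
import Groth.Agent.Lib.Perfect.Regular
import Groth.Agent.S1109

/-!
# A functor fixing the modules supported at closed points is fully faithful
-/

set_option autoImplicit false
set_option linter.style.haveILetI false
set_option linter.unusedSectionVars false

universe u

open CategoryTheory CategoryTheory.Limits CategoryTheory.Pretriangulated AlgebraicGeometry DerivedCategory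

attribute [local instance] HasDerivedCategory.standard

namespace Groth.Agent.H83.PtFF

open Groth.Agent.Lib Groth.Agent.H83.FullFaith Groth.Agent.H56.PointHom

variable {k : Type u} [Field k] {X : Scheme.{u}} [X.Over (Spec (CommRingCat.of k))]
  [IsProper (X ↘ Spec (CommRingCat.of k))] [(SGA6.perfP X).IsTriangulated]

/-- Perfect objects that are modules supported at `x`. -/
def Cls (x : X) (P : (SGA6.perfP X).FullSubcategory) : Prop :=
  ∃ M : X.Modules, AtPt x M ∧ Nonempty (P.obj ≅ DCoh.inD X M)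

/-- A triangle of perfect objects is distinguished in the subcategory. -/
theorem exists_dist (P₁ P₂ P₃ : (SGA6.perfP X).FullSubcategory) (f : P₁.obj ⟶ P₂.obj) (g : P₂.obj ⟶ P₃.obj)
    (w : P₃.obj ⟶ (shiftFunctor (DCoh.D X) (1 : ℤ)).obj P₁.obj)
    (hT : Triangle.mk f g w ∈ distTriang (DCoh.D X)) :
    ∃ w' : P₃ ⟶ (shiftFunctor ((SGA6.perfP X).FullSubcategory) (1 : ℤ)).obj P₁,
      Triangle.mk (ObjectProperty.homMk f : P₁ ⟶ P₂) (ObjectProperty.homMk g : P₂ ⟶ P₃) w' ∈
        distTriang ((SGA6.perfP X).FullSubcategory) := by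
  refine ⟨ObjectProperty.homMk (w ≫ ((SGA6.perfP X).ι.commShiftIso (1 : ℤ)).inv.app P₁),
    isomorphic_distinguished _ hT _ (Triangle.isoMk _ _ (Iso.refl _) (Iso.refl _) (Iso.refl _) ?_ ?_ ?_)⟩
  · exact (Category.comp_id _).trans (Category.id_comp _).symm
  · exact (Category.comp_id _).trans (Category.id_comp _).symm
  · change ((w ≫ _) ≫ _) ≫ (𝟙 _)⟦(1 : ℤ)⟧' = 𝟙 _ ≫ w
    rw [CategoryTheory.Functor.map_id, Category.comp_id]
    refine (Category.assoc _ _ _).trans ?_
    refine (congrArg (w ≫ ·) (((SGA6.perfP X).ι.commShiftIso (1 : ℤ)).inv_hom_id_app P₁)).trans ?_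
    exact (Category.comp_id _).trans (Category.id_comp _).symm

variable [IsNoetherian X] (hreg : Models.IsRegularScheme X)

include k in
theorem isGE_of_cls {x : X} {P : (SGA6.perfP X).FullSubcategory} (hP : Cls x P) :
    TStructure.t.IsGE P.obj 0 ∧ TStructure.t.IsLE P.obj 0 := by
  obtain ⟨M, -, ⟨e⟩⟩ := hP
  exact ⟨TStructure.t.isGE_of_iso (X := (singleFunctor X.Modules 0).obj M) e.symm 0,
    TStructure.t.isLE_of_iso (X := (singleFunctor X.Modules 0).obj M) e.symm 0⟩

include k in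
theorem cohb_of_cls {x : X} {P : (SGA6.perfP X).FullSubcategory} (hP : Cls x P) : SGA6.cohbP X P.obj := by
  obtain ⟨h0, h1⟩ := isGE_of_cls (k := k) hP
  obtain ⟨M, hM, ⟨e⟩⟩ := hP
  refine ⟨fun i => ?_, 0, 0, h0, h1⟩
  by_cases hi : i = 0
  · subst hi
    exact CohBasics.Closure.isCoh_of_iso ((homologyFunctor _ 0).mapIso e ≪≫
      (singleFunctorCompHomologyFunctorIso _ 0).app M).symm hM.1
  · haveI := h0
    haveI := h1
    refine SchColim29.CohPush.isCoh_of_isZero ?_
    rcases lt_or_gt_of_ne hi with h | h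
    · exact isZero_of_isGE P.obj 0 i h
    · exact isZero_of_isLE P.obj 0 i h

include k in
theorem cls_ext (x : X) (T : Triangle ((SGA6.perfP X).FullSubcategory))
    (hT : T ∈ distTriang ((SGA6.perfP X).FullSubcategory)) (h₁ : Cls x T.obj₁) (h₃ : Cls x T.obj₃) :
    Cls x T.obj₂ := by
  have hT' : (SGA6.perfP X).ι.mapTriangle.obj T ∈ distTriang (DCoh.D X) := hT
  have hc := RegCrit.cohbP₂ hT' (cohb_of_cls (k := k) h₁) (cohb_of_cls (k := k) h₃)
  obtain ⟨g₁, l₁⟩ := isGE_of_cls (k := k) h₁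
  obtain ⟨g₃, l₃⟩ := isGE_of_cls (k := k) h₃
  haveI : T.obj₂.obj.IsGE 0 := TStructure.t.isGE₂ _ hT' 0 g₁ g₃
  haveI : T.obj₂.obj.IsLE 0 := TStructure.t.isLE₂ _ hT' 0 l₁ l₃
  obtain ⟨M, ⟨eM⟩⟩ := exists_iso_singleFunctor_obj_of_isGE_of_isLE T.obj₂.obj 0
  obtain ⟨M₁, hM₁, ⟨e₁⟩⟩ := h₁
  obtain ⟨M₃, hM₃, ⟨e₃⟩⟩ := h₃
  let H := homologyFunctor X.Modules 0
  let s := fun N : X.Modules => (singleFunctorCompHomologyFunctorIso X.Modules 0).app N
  have hH : AtPt x (H.obj T.obj₂.obj) := by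
    refine ⟨hc.1 0, ?_⟩
    let S : ShortComplex X.Modules := ShortComplex.mk (H.map ((SGA6.perfP X).ι.map T.mor₁))
      (H.map ((SGA6.perfP X).ι.map T.mor₂))
      (((H.map_comp _ _).symm.trans (congrArg H.map (comp_distTriang_mor_zero₁₂ _ hT'))).trans (H.map_zero _ _))
    have hS : S.Exact := HomologySequence.exact₂ _ hT' 0
    haveI : Epi (kernel.lift S.g S.f S.zero) := S.exact_iff_epi_kernel_lift.1 hS
    let U : ShortComplex X.Modules := ShortComplex.mk (kernel.ι S.g) (cokernel.π (kernel.ι S.g)) (cokernel.condition _)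
    have hU : U.ShortExact :=
      { exact := ShortComplex.exact_of_g_is_cokernel _ (cokernelIsCokernel _)
        mono_f := inferInstanceAs (Mono (kernel.ι S.g))
        epi_g := inferInstanceAs (Epi (cokernel.π (kernel.ι S.g))) }
    rw [show CohB1.support (H.obj T.obj₂.obj) = _ from Modules.Support.support_eq_union_of_shortExact hU]
    refine Set.union_subset ((Modules.Support.support_subset_of_epi (kernel.lift S.g S.f S.zero)).trans ?_)
      ((Modules.Support.support_subset_of_mono (Abelian.factorThruCoimage S.g)).trans ?_)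
    · exact (Modules.Support.support_congr (H.mapIso e₁ ≪≫ s M₁)).subset.trans hM₁.2
    · exact (Modules.Support.support_congr (H.mapIso e₃ ≪≫ s M₃)).subset.trans hM₃.2
  exact ⟨M, hH.of_iso (H.mapIso eM ≪≫ s M), ⟨eM⟩⟩

include hreg in
theorem heart {x : X} (hx : IsClosed ({x} : Set X))
    (F : (SGA6.perfP X).FullSubcategory ⥤ (SGA6.perfP X).FullSubcategory) [F.Additive] [F.Linear k]
    [F.CommShift ℤ] [F.IsTriangulated]
    (hfix : ∀ P, Cls x P → Nonempty (F.obj P ≅ P)) : Heart (k := k) F (Cls x) := by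
  have hres : PerfAux.HasResolutionProperty X := by
    haveI : X.IsSeparated := ⟨by rw [← terminal.comp_from (X ↘ Spec (CommRingCat.of k))]; infer_instance⟩
    exact Groth.Agent.S1109.result X hreg fun U V hU hV => hU.inf hV
  let mk : ∀ {M : X.Modules}, Coh.IsCoh M → (SGA6.perfP X).FullSubcategory :=
    fun hM => ⟨_, Perfect.Regular.isPerfect_inD hreg hM⟩
  refine ⟨hfix, ?_, ?_, cls_ext (k := k) x, ?_, ?_⟩
  · intro A B hA hB i hi φ
    obtain ⟨gB, -⟩ := isGE_of_cls (k := k) hB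
    obtain ⟨-, lA⟩ := isGE_of_cls (k := k) hA
    let c := ((SGA6.perfP X).ι.commShiftIso i).app B
    haveI := gB
    haveI := lA
    haveI : TStructure.t.IsGE (((SGA6.perfP X).ι ⋙ shiftFunctor (DCoh.D X) i).obj B) (-i) :=
      TStructure.t.isGE_shift B.obj 0 i (-i) (by omega)
    refine ObjectProperty.hom_ext _ ((cancel_mono c.hom).1 ?_)
    exact (TStructure.t.zero (φ.hom ≫ c.hom) 0 (-i) (by omega)).trans zero_comp.symm
  · intro A B hA hB i
    obtain ⟨cA, -, bA, -, hbA⟩ := cohb_of_cls (k := k) hA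
    obtain ⟨cB, aB, bB, haB, hbB⟩ := RegCrit.cohbP_shift (cohb_of_cls (k := k) hB) i
    haveI : A.obj.IsLE bA := hbA
    haveI : ((shiftFunctor (DCoh.D X) i).obj B.obj).IsGE aB := haB
    haveI := ExtFinite.finite_hom (A := k) A.obj ((shiftFunctor (DCoh.D X) i).obj B.obj) cA bA cB aB
    let L : (A ⟶ (shiftFunctor ((SGA6.perfP X).FullSubcategory) i).obj B) →ₗ[k]
        (A.obj ⟶ (shiftFunctor (DCoh.D X) i).obj B.obj) :=
      (Linear.homCongr k (Iso.refl A.obj) (((SGA6.perfP X).ι.commShiftIso i).app B)).toLinearMap ∘ₗ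
        (SGA6.perfP X).ι.mapLinearMap k
    refine Module.Finite.of_injective L ((injective_iff_map_eq_zero L).2 fun φ hφ => ?_)
    refine (SGA6.perfP X).ι.map_injective (Eq.trans ?_ ((SGA6.perfP X).ι.map_zero _ _).symm)
    exact (Linear.homCongr k (Iso.refl A.obj) (((SGA6.perfP X).ι.commShiftIso i).app B)).injective
      (hφ.trans (map_zero _).symm)
  · rintro A B f ⟨M, hM, ⟨a⟩⟩ ⟨N, hN, ⟨b⟩⟩
    obtain ⟨f₀, hf₀⟩ := (singleFunctor X.Modules 0).map_surjective (a.inv ≫ f.hom ≫ b.hom)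
    let im := kernel (cokernel.π f₀)
    have hI : AtPt x im := ⟨CohBasics.Closure.isCoh_kernel _ hN.1
      (CohBasics.Closure.isCoh_cokernel f₀ hM.1.1 hN.1).1,
      (Modules.Support.support_subset_of_mono (kernel.ι _)).trans hN.2⟩
    let π₀ : M ⟶ im := Abelian.factorThruImage f₀
    have hK : AtPt x (kernel π₀) := ⟨CohBasics.Closure.isCoh_kernel _ hM.1 hI.1.1,
      (Modules.Support.support_subset_of_mono (kernel.ι _)).trans hM.2⟩
    have hQ : AtPt x (cokernel f₀) := ⟨CohBasics.Closure.isCoh_cokernel f₀ hM.1.1 hN.1,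
      (Modules.Support.support_subset_of_epi (cokernel.π _)).trans hN.2⟩
    have h₁ : (ShortComplex.mk (kernel.ι π₀) π₀ (kernel.condition π₀)).ShortExact :=
      { exact := ShortComplex.exact_of_f_is_kernel _ (kernelIsKernel π₀)
        mono_f := inferInstanceAs (Mono (kernel.ι π₀))
        epi_g := inferInstanceAs (Epi (Abelian.factorThruImage f₀)) }
    have h₂ : (ShortComplex.mk (kernel.ι (cokernel.π f₀)) (cokernel.π f₀) (kernel.condition _)).ShortExact :=
      { exact := ShortComplex.exact_of_f_is_kernel _ (kernelIsKernel _)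
        mono_f := inferInstanceAs (Mono (kernel.ι (cokernel.π f₀)))
        epi_g := inferInstanceAs (Epi (cokernel.π f₀)) }
    have hd₁ : Triangle.mk ((singleFunctor X.Modules 0).map (kernel.ι π₀) ≫ a.inv)
        (a.hom ≫ (singleFunctor X.Modules 0).map π₀) h₁.singleδ ∈ distTriang (DCoh.D X) := by
      refine isomorphic_distinguished _ h₁.singleTriangle_distinguished _
        (Triangle.isoMk _ _ (Iso.refl _) a (Iso.refl _) ?_ ?_ ?_)
      · exact ((Category.assoc _ _ _).trans (congrArg (_ ≫ ·) a.inv_hom_id)).trans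
          ((Category.comp_id _).trans (Category.id_comp _).symm)
      · exact Category.comp_id _
      · exact ((congrArg (_ ≫ ·) (CategoryTheory.Functor.map_id _ _)).trans (Category.comp_id _)).trans
          (Category.id_comp _).symm
    have hd₂ : Triangle.mk ((singleFunctor X.Modules 0).map (kernel.ι (cokernel.π f₀)) ≫ b.inv)
        (b.hom ≫ (singleFunctor X.Modules 0).map (cokernel.π f₀)) h₂.singleδ ∈ distTriang (DCoh.D X) := by
      refine isomorphic_distinguished _ h₂.singleTriangle_distinguished _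
        (Triangle.isoMk _ _ (Iso.refl _) b (Iso.refl _) ?_ ?_ ?_)
      · exact ((Category.assoc _ _ _).trans (congrArg (_ ≫ ·) b.inv_hom_id)).trans
          ((Category.comp_id _).trans (Category.id_comp _).symm)
      · exact Category.comp_id _
      · exact ((congrArg (_ ≫ ·) (CategoryTheory.Functor.map_id _ _)).trans (Category.comp_id _)).trans
          (Category.id_comp _).symm
    obtain ⟨w₁, hw₁⟩ := exists_dist (mk hK.1) A (mk hI.1) _ _ _ hd₁
    obtain ⟨w₂, hw₂⟩ := exists_dist (mk hI.1) B (mk hQ.1) _ _ _ hd₂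
    refine ⟨_, _, _, _, _, w₁, _, _, w₂, hw₁, hw₂, ⟨_, hK, ⟨Iso.refl _⟩⟩, ⟨_, hI, ⟨Iso.refl _⟩⟩,
      ⟨_, hQ, ⟨Iso.refl _⟩⟩, ObjectProperty.hom_ext _ ?_⟩
    change f.hom = (a.hom ≫ (singleFunctor X.Modules 0).map π₀) ≫
      ((singleFunctor X.Modules 0).map (kernel.ι (cokernel.π f₀)) ≫ b.inv)
    have hfac : π₀ ≫ kernel.ι (cokernel.π f₀) = f₀ := Abelian.image.fac f₀
    refine Eq.trans ?_ (Category.assoc _ _ _).symm
    refine Eq.trans ?_ (congrArg (a.hom ≫ ·) ((congrArg (· ≫ b.inv)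
      (((singleFunctor X.Modules 0).map_comp _ _).symm.trans
        ((congrArg (singleFunctor X.Modules 0).map hfac).trans hf₀))).symm.trans (Category.assoc _ _ _)))
    simp
  · rintro A B ⟨M, hM, ⟨a⟩⟩ ⟨N, hN, ⟨b⟩⟩ i hi ξ
    let c := ((SGA6.perfP X).ι.commShiftIso (i + 1)).app B ≪≫ (shiftFunctor (DCoh.D X) (i + 1)).mapIso b
    obtain ⟨Q, δ, θ, hQ, hξ⟩ := exists_gen hx hres hM.1 hN (show 0 ≤ i by omega) (a.inv ≫ ξ.hom ≫ c.hom)
    let d := ((SGA6.perfP X).ι.commShiftIso (1 : ℤ)).app (mk hQ.1)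
    refine ⟨mk hQ.1, ObjectProperty.homMk (a.hom ≫ δ ≫ d.inv), ObjectProperty.homMk (d.hom ≫ θ ≫ c.inv),
      ⟨Q, hQ, ⟨Iso.refl _⟩⟩, ObjectProperty.hom_ext _ ?_⟩
    change ξ.hom = (a.hom ≫ δ ≫ d.inv) ≫ d.hom ≫ θ ≫ c.inv
    symm
    calc (a.hom ≫ δ ≫ d.inv) ≫ d.hom ≫ θ ≫ c.inv = a.hom ≫ (δ ≫ θ) ≫ c.inv := by simp
      _ = ξ.hom := by rw [← hξ]; simp

include hreg in
theorem full_faithful (F : (SGA6.perfP X).FullSubcategory ⥤ (SGA6.perfP X).FullSubcategory) [F.Additive]
    [F.Linear k] [F.CommShift ℤ] [F.IsTriangulated]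
    (h : ∀ (M : X.Modules), Coh.IsCoh M → (CohB1.support M).Finite → (CohB1.support M).Nonempty →
        (∀ x ∈ CohB1.support M, IsClosed ({x} : Set X)) →
        ∀ (hM : DCoh.IsPerfect (DCoh.inD X M)),
          Nonempty ((⟨DCoh.inD X M, hM⟩ : (SGA6.perfP X).FullSubcategory) ≅ F.obj ⟨DCoh.inD X M, hM⟩)) :
    F.Full ∧ F.Faithful := by
  have hfix : ∀ x : X, IsClosed ({x} : Set X) → ∀ P, Cls x P → Nonempty (F.obj P ≅ P) := by
    intro x hx P hP
    obtain ⟨M, hM, ⟨e⟩⟩ := hP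
    let P' : (SGA6.perfP X).FullSubcategory := ⟨_, Perfect.Regular.isPerfect_inD hreg hM.1⟩
    let i : P ≅ P' := ObjectProperty.isoMk _ e
    by_cases hne : (CohB1.support M).Nonempty
    · obtain ⟨t⟩ := h M hM.1 ((Set.finite_singleton x).subset hM.2) hne
        (fun y hy => by rw [show y = x from hM.2 hy]; exact hx) P'.property
      exact ⟨F.mapIso i ≪≫ t.symm ≪≫ i.symm⟩
    · have hz : IsZero P := isZero_of_ι (k := k) (((singleFunctor X.Modules 0).map_isZero
        (Modules.Support.support_eq_empty_iff.1 (Set.not_nonempty_iff_eq_empty.1 hne))).of_iso e)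
      exact ⟨(F.map_isZero hz).iso hz⟩
  have hsky : ∀ (x : X) (hx : IsClosed ({x} : Set X)), Cls x (ptP (k := k) hreg hx) := fun x hx =>
    ⟨_, ⟨isCoh_sky hx, fun y hy => by_contra fun hne => hy (subsingleton_stalk_sky hx hne)⟩, ⟨Iso.refl _⟩⟩
  refine full_faithful_of_points (k := k) hreg F fun x x' hx hx' i => ?_
  by_cases hxx : x = x'
  · subst hxx
    exact (heart (k := k) hreg hx F (hfix x hx)).bij_all (hsky x hx) (hsky x hx) i
  · have h0 : ∀ φ : ptP (k := k) hreg hx ⟶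
        (shiftFunctor ((SGA6.perfP X).FullSubcategory) i).obj (ptP (k := k) hreg hx'), φ = 0 := fun φ => by
      let c := ((SGA6.perfP X).ι.commShiftIso i).app (ptP (k := k) hreg hx') ≪≫
        ((singleFunctors X.Modules).shiftIso i (-i) 0 (by omega)).app (sky x')
      refine ObjectProperty.hom_ext _ ((cancel_mono c.hom).1 ?_)
      exact (hom_to_sky_eq_zero hx' (isCoh_sky hx) (fun hm => hm (subsingleton_stalk_sky hx (Ne.symm hxx)))
        (i := 0) (j := -i) (φ.hom ≫ c.hom)).trans zero_comp.symm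
    obtain ⟨a⟩ := hfix x hx _ (hsky x hx)
    obtain ⟨b⟩ := hfix x' hx' _ (hsky x' hx')
    let c := (F.commShiftIso i).app (ptP (k := k) hreg hx') ≪≫ (shiftFunctor _ i).mapIso b
    refine ⟨fun f g _ => (h0 f).trans (h0 g).symm, fun ψ => ⟨0, ?_⟩⟩
    refine (cancel_mono c.hom).1 ((cancel_epi a.inv).1 ?_)
    exact ((congrArg (fun t => a.inv ≫ t ≫ c.hom) (F.map_zero _ _)).trans (by simp)).trans (h0 _).symm

end Groth.Agent.H83.PtFF
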