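import Groth.Agent.Lib.Devissage.Sky
import Groth.Agent.Lib.CohBasics.Closure
import Groth.Agent.Lib.RefHull.LocFree
import Groth.Agent.Lib.Modules.Support
import Mathlib.RingTheory.Filtration

/-!
# Separating submodules supported at a closed point by quotients supported there
-/

set_option autoImplicit false
set_option linter.style.haveILetI false

universe u

open CategoryTheory CategoryTheory.Limits AlgebraicGeometry IsLocalRing

namespace Groth.Agent.H83.PtFF

open Groth.Agent.Lib Modules.StalkModule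

variable {X : Scheme.{u}}

/-- Coherent modules supported at `x`. -/
def AtPt (x : X) (M : X.Modules) : Prop := Coh.IsCoh M ∧ CohB1.support M ⊆ {x}

theorem AtPt.of_iso {x : X} {M N : X.Modules} (e : M ≅ N) (h : AtPt x M) : AtPt x N :=
  ⟨CohBasics.Closure.isCoh_of_iso e h.1, (Modules.Support.support_congr e) ▸ h.2⟩

/-- The maximal ideal acts locally nilpotently on the stalk at `x`. -/
theorem exists_pow_smul {x : X} {M : X.Modules} (hM : AtPt x M) {a : X.presheaf.stalk x}
    (ha : ¬ IsUnit a) (v : M.presheaf.stalk x) : ∃ n : ℕ, a ^ n • v = 0 := by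
  haveI := hM.1.1
  obtain ⟨U, hxU, r, m, rfl, rfl⟩ := exists_germ_eq₂ a v
  obtain ⟨V, hV, hxV, hVU⟩ := exists_isAffineOpen_mem_and_subset (U := U) hxU
  let r' : Γ(X, V) := X.presheaf.map (homOfLE hVU).op r
  let m' : Γ(M, V) := M.presheaf.map (homOfLE hVU).op m
  have hr : X.presheaf.germ V x hxV r' = X.presheaf.germ U x hxU r :=
    TopCat.Presheaf.germ_res_apply _ _ _ _ _
  have hm : M.presheaf.germ V x hxV m' = M.presheaf.germ U x hxU m :=
    TopCat.Presheaf.germ_res_apply _ _ _ _ _
  obtain ⟨n, hn⟩ := QCoh.Localizing.exists_pow_smul_eq_zero_of_isCompact (M := M) hV.isCompact r' m'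
    (Modules.Support.eq_zero_of_germ_eq_zero _ fun y hy hys => by
      obtain rfl : y = x := hM.2 hys
      exact absurd ((RingedSpace.mem_basicOpen _ r' y hxV).1 hy) (hr ▸ ha))
  refine ⟨n, ?_⟩
  rw [← hr, ← hm, ← map_pow, ← germ_smul, hn, map_zero]

theorem exists_pow_le_annihilator {R : Type u} [CommRing R] [IsLocalRing R] [IsNoetherianRing R] {N : Type u}
    [AddCommGroup N] [Module R N] [Module.Finite R N]
    (h : ∀ a : R, ¬ IsUnit a → ∀ l : N, ∃ n : ℕ, a ^ n • l = 0) :
    ∃ n : ℕ, maximalIdeal R ^ n ≤ Module.annihilator R N := by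
  classical
  refine Ideal.exists_pow_le_of_le_radical_of_fg (fun a ha => ?_) (IsNoetherian.noetherian _)
  obtain ⟨s, hs⟩ := (Module.Finite.fg_top : (⊤ : Submodule R N).FG)
  choose e he using fun l : N => h a ((mem_maximalIdeal a).1 ha) l
  refine ⟨s.sup e, ?_⟩
  rw [← Submodule.annihilator_top, ← hs, Submodule.mem_annihilator_span]
  intro l
  obtain ⟨k, hk⟩ := Nat.exists_eq_add_of_le (Finset.le_sup (f := e) l.2)
  rw [hk, add_comm, pow_add, mul_smul, he, smul_zero]

variable [IsLocallyNoetherian X]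

/-- A coherent module has a quotient at `x` into which a given submodule supported at `x` injects. -/
theorem exists_quot {x : X} (hx : IsClosed ({x} : Set X)) {E Q : X.Modules} (hE : Coh.IsCoh E)
    (hQ : AtPt x Q) (i : Q ⟶ E) [Mono i] :
    ∃ (L : X.Modules) (q : E ⟶ L), AtPt x L ∧ Epi q ∧ Mono (i ≫ q) := by
  let R := X.presheaf.stalk x
  haveI := RefHull.LocFree.finite_stalk hE x
  haveI := RefHull.LocFree.finite_stalk hQ.1 x
  obtain ⟨n, hn⟩ := exists_pow_le_annihilator (R := X.presheaf.stalk x) (N := Q.presheaf.stalk x)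
    fun a ha v => exists_pow_smul hQ ha v
  let N := LinearMap.range (stalkMapₗ i x)
  obtain ⟨k, hk⟩ := Ideal.exists_pow_inf_eq_pow_smul (maximalIdeal (X.presheaf.stalk x)) N
  let S : Submodule (X.presheaf.stalk x) (E.presheaf.stalk x) :=
    maximalIdeal (X.presheaf.stalk x) ^ (n + k) • ⊤
  have hSN : S ⊓ N = ⊥ := by
    rw [show S ⊓ N = _ from hk (n + k) (by omega), show n + k - k = n by omega, eq_bot_iff]
    refine le_trans (Submodule.smul_mono le_rfl inf_le_right) (Submodule.smul_le.2 fun a ha v hv => ?_)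
    obtain ⟨w, rfl⟩ := hv
    rw [Submodule.mem_bot, ← map_smul, (Module.mem_annihilator.1 (hn ha) w), map_zero]
  let L := Devissage.Sky.sky x ((E.presheaf.stalk x) ⧸ S)
  let q : E ⟶ L := Devissage.Sky.toSky (Submodule.mkQ S)
  have hqc : L.IsQuasicoherent := Devissage.Sky.isQCoh_sky x _ fun a ha l => by
    obtain ⟨v, rfl⟩ := Submodule.Quotient.mk_surjective S l
    refine ⟨n + k, ?_⟩
    rw [← Submodule.Quotient.mk_smul, Submodule.Quotient.mk_eq_zero]
    exact Submodule.smul_mem_smul (Ideal.pow_mem_pow ((mem_maximalIdeal a).2 ha) _) trivial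
  have hoff : ∀ y : X, y ≠ x → Subsingleton (L.presheaf.stalk y) := fun y hy => by
    refine subsingleton_of_forall_eq 0 fun v => ?_
    obtain ⟨U, hU, s, rfl⟩ := TopCat.Presheaf.exists_germ_eq L.presheaf v
    let W : X.Opens := U ⊓ ⟨{x}ᶜ, hx.isOpen_compl⟩
    have hW : y ∈ W := ⟨hU, hy⟩
    rw [← TopCat.Presheaf.germ_res_apply L.presheaf (homOfLE (inf_le_left : W ≤ U)) y hW s]
    refine (congrArg (L.presheaf.germ W y hW) ?_).trans (map_zero _)
    exact funext fun h => absurd rfl (show ¬ x = x from h.down.2)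
  haveI hq : Epi q := (epi_iff_stalkMapₗ_surjective q).2 fun y => by
    by_cases hy : y = x
    · subst hy
      intro w
      obtain ⟨l, rfl⟩ := (Devissage.Sky.stalkEquiv y _).surjective w
      obtain ⟨v, rfl⟩ := Submodule.Quotient.mk_surjective S l
      exact ⟨v, Devissage.Sky.stalkMapₗ_toSky (Submodule.mkQ S) v⟩
    · haveI := hoff y hy
      exact fun w => ⟨0, Subsingleton.elim _ _⟩
  haveI := hqc
  refine ⟨L, q, ⟨CohBasics.Closure.isCoh_of_epi q hE, fun y hy => ?_⟩, hq,
    (mono_iff_stalkMapₗ_injective _).2 fun y => ?_⟩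
  · by_contra hne
    exact hy (hoff y hne)
  · by_cases hy : y = x
    · subst hy
      rw [stalkMapₗ_comp, injective_iff_map_eq_zero]
      intro v hv
      refine (mono_iff_stalkMapₗ_injective i).1 inferInstance y ?_
      rw [map_zero, ← Submodule.mem_bot (X.presheaf.stalk y), ← hSN]
      refine ⟨(Submodule.Quotient.mk_eq_zero S).1 ((Devissage.Sky.stalkEquiv y _).injective ?_), v, rfl⟩
      rw [map_zero]
      exact (Devissage.Sky.stalkMapₗ_toSky (Submodule.mkQ S) (stalkMapₗ i y v)).symm.trans hv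
    · haveI : Subsingleton (Q.presheaf.stalk y) := not_not.1 fun h => hy (hQ.2 h)
      exact Function.injective_of_subsingleton _

end Groth.Agent.H83.PtFF
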